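import Mathlib
import Cfsg.Agent.Lib.Helper67.CHO.OmegaPlus
import Cfsg.Agent.Lib.Helper99.CHO.Defs
import Cfsg.Agent.Lib.Helper99.CHO.Defs2

/-!
# Project CHO (S1082), package [GEN-D4]: `Ω(quadFormPlus 4 K) = RD4 K` over every field

`genD4 : Cfsg.Geo.omegaGL (Cfsg.quadFormPlus 4 K) = RD4 K` with no dependencies: the model root
element `ED4mat K r t = 1 + t N_r` is the Siegel transvection of the pair of basis vectors
`(pD r, qD r)` with parameter `sD r * t` (integer table check), every pair of basis vectors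
spanning a singular line occurs, and `Ω` is generated by these Siegel transvections
(`Cfsg.Agent.Lib.Helper67.CHO.omega_eq_closure_rootSet`).
-/

set_option autoImplicit false
set_option linter.unusedSimpArgs false
set_option linter.unusedVariables false
open scoped Matrix

namespace Cfsg.Agent.Lib.Helper67.CHO

open Cfsg.Agent.Lib.Helper31.Siegel Cfsg.Agent.Lib.Helper32.Siegel Cfsg.Agent.Lib.Helper32.OPG
open Cfsg.Agent.Lib.Helper99.CHO

universe u

section generic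

variable {n : ℕ} {F : Type u} [Field F]

/-- the index of the dual basis vector. -/
def flp {n : ℕ} : Fin n ⊕ Fin n → Fin n ⊕ Fin n
  | Sum.inl i => Sum.inr i
  | Sum.inr i => Sum.inl i

/-- the basis vector with index `a`. -/
def bv (a : Fin n ⊕ Fin n) : Vec n F := Pi.single a 1

theorem B_bv (v : Vec n F) (a : Fin n ⊕ Fin n) : B v (bv a) = v (flp a) := by
  rcases a with i | i
  · exact B_E v i
  · exact B_Fv v i

theorem isSingLine_bv {a b : Fin n ⊕ Fin n} (h1 : a ≠ b) (h2 : a ≠ flp b) :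
    IsSingLine (bv a : Vec n F) (bv b) := by
  rcases a with i | i <;> rcases b with j | j
  · exact isSingLine_E_E (fun h => h1 (by rw [h]))
  · exact isSingLine_E_Fv (fun h => h2 (by rw [h]; rfl))
  · exact isSingLine_Fv_E (fun h => h2 (by rw [h]; rfl))
  · exact isSingLine_Fv_Fv (fun h => h1 (by rw [h]))

/-- the Siegel transvections of the pairs of basis vectors. -/
def rootSet' (n : ℕ) (F : Type u) [Field F] : Set ↥(Iso n F) :=
  {σ | ∃ (a b : Fin n ⊕ Fin n) (c : F), a ≠ b ∧ a ≠ flp b ∧ IsSiegel (bv a) (bv b) c σ}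

theorem omega_eq_closure_rootSet' (hn : 3 ≤ n) :
    Cfsg.Omega F (Cfsg.quadFormPlus n F) = Subgroup.closure (rootSet' n F) := by
  apply le_antisymm
  · rw [omega_eq_closure_rootSet hn]
    apply Subgroup.closure_mono
    rintro σ ⟨i, j, c, hij, h | h | h⟩
    · exact ⟨Sum.inl i, Sum.inr j, c, by simp, by simp [flp, hij], h⟩
    · exact ⟨Sum.inl i, Sum.inl j, c, by simp [hij], by simp [flp], h⟩
    · exact ⟨Sum.inr i, Sum.inr j, c, by simp [hij], by simp [flp], h⟩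
  · rw [Subgroup.closure_le]
    rintro σ ⟨a, b, c, hab, hab', hσ⟩
    have hl := isSingLine_bv (F := F) hab hab'
    exact siegOm_any hn _ _ hl
      ((Cfsg.Agent.Lib.Helper67.Siegel.pkgParam n F _ _ hl σ).2 ⟨c, hσ⟩)

end generic

/-! ## The D4 tables -/

/-- first basis index of the root `r`. -/
def pL : List (Fin 4 ⊕ Fin 4) :=
  [.inr 1, .inr 2, .inl 3, .inr 3, .inl 2, .inl 1, .inr 1, .inl 3, .inr 1, .inl 2, .inl 3, .inr 3,
   .inl 2, .inl 2, .inl 1, .inl 3, .inl 1, .inl 2, .inl 0, .inl 0, .inl 0, .inl 0, .inl 0, .inl 0]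

/-- second basis index of the root `r`. -/
def qL : List (Fin 4 ⊕ Fin 4) :=
  [.inr 0, .inr 0, .inr 0, .inr 0, .inr 0, .inr 0, .inr 2, .inr 1, .inr 3, .inr 1, .inr 2, .inr 2,
   .inl 3, .inr 3, .inr 2, .inl 1, .inr 3, .inl 1, .inr 1, .inr 2, .inl 3, .inr 3, .inl 2, .inl 1]

/-- sign of the root `r`. -/
def sL : List ℤ :=
  [1, 1, 1, 1, -1, 1, 1, -1, 1, 1, 1, 1, 1, 1, 1, 1, -1, 1, 1, -1, 1, 1, 1, 1]

def pD (r : ℕ) : Fin 4 ⊕ Fin 4 := pL.getD r (.inl 0)
def qD (r : ℕ) : Fin 4 ⊕ Fin 4 := qL.getD r (.inl 0)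
def sD (r : ℕ) : ℤ := sL.getD r 1

set_option maxRecDepth 100000 in
theorem tabD4 : ∀ r, r < 24 → ∀ x y : Fin 4 ⊕ Fin 4,
    tab3 nListD4 r (ix8 x) (ix8 y) =
      sD r * ((if x = pD r ∧ y = flp (qD r) then 1 else 0) -
        (if x = qD r ∧ y = flp (pD r) then 1 else 0)) := by
  decide +kernel

theorem tabD4_ne : ∀ r, r < 24 → pD r ≠ qD r ∧ pD r ≠ flp (qD r) ∧ sD r * sD r = 1 := by
  decide +kernel

theorem tabD4_all : ∀ a b : Fin 4 ⊕ Fin 4, a ≠ b → a ≠ flp b →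
    ∃ r, r < 24 ∧ ((pD r = a ∧ qD r = b) ∨ (pD r = b ∧ qD r = a)) := by
  decide +kernel

section D4

variable (K : Type u) [Field K]

theorem ND4_apply' (r : ℕ) (hr : r < 24) (x y : Fin 4 ⊕ Fin 4) :
    ND4 K r x y = (sD r : K) * ((if x = pD r ∧ y = flp (qD r) then 1 else 0) -
        (if x = qD r ∧ y = flp (pD r) then 1 else 0)) := by
  show ((tab3 nListD4 r (ix8 x) (ix8 y) : ℤ) : K) = _
  rw [tabD4 r hr x y]
  push_cast
  rfl

theorem sum_ite_and {α β : Type} [Fintype β] [DecidableEq α] [DecidableEq β] (x p : α) (fq : β)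
    (v : β → K) : ∑ y, (if x = p ∧ y = fq then (1 : K) else 0) * v y = if x = p then v fq else 0 := by
  by_cases h : x = p
  · simp [h]
  · simp [h]

theorem ND4_mulVec (r : ℕ) (hr : r < 24) (v : Fin 4 ⊕ Fin 4 → K) (x : Fin 4 ⊕ Fin 4) :
    (ND4 K r *ᵥ v) x = (sD r : K) * ((if x = pD r then v (flp (qD r)) else 0) -
        (if x = qD r then v (flp (pD r)) else 0)) := by
  rw [Matrix.mulVec, dotProduct]
  simp_rw [ND4_apply' K r hr, mul_assoc, sub_mul]
  rw [← Finset.mul_sum, Finset.sum_sub_distrib, sum_ite_and, sum_ite_and]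

/-- the model root element is the Siegel transvection of `(pD r, qD r)` with parameter
`sD r * t`. -/
theorem ED4mat_act (r : ℕ) (hr : r < 24) (t : K) (v : Vec 4 K) :
    ED4mat K r t *ᵥ v = v + ((sD r : K) * t * B v (bv (qD r))) • (bv (pD r) : Vec 4 K)
      - ((sD r : K) * t * B v (bv (pD r))) • (bv (qD r) : Vec 4 K) := by
  funext x
  rw [B_bv, B_bv]
  simp only [ED4mat, Matrix.add_mulVec, Matrix.one_mulVec, Matrix.smul_mulVec, Pi.add_apply,
    Pi.sub_apply, Pi.smul_apply, smul_eq_mul, bv, Pi.single_apply]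
  rw [ND4_mulVec K r hr]
  have hpq : pD r ≠ qD r := (tabD4_ne r hr).1
  by_cases h1 : x = pD r
  · have h2 : x ≠ qD r := by rw [h1]; exact hpq
    rw [if_pos h1, if_neg h2, if_pos h1, if_neg h2]
    ring
  · by_cases h2 : x = qD r
    · rw [if_neg h1, if_pos h2, if_neg h1, if_pos h2]
      ring
    · rw [if_neg h1, if_neg h2, if_neg h1, if_neg h2]
      ring

theorem isSingLine_D4 (r : ℕ) (hr : r < 24) :
    IsSingLine (bv (pD r) : Vec 4 K) (bv (qD r)) :=
  isSingLine_bv (tabD4_ne r hr).1 (tabD4_ne r hr).2.1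

theorem mat_eq_of_siegel (r : ℕ) (hr : r < 24) (t : K) (σ : ↥(Iso 4 K))
    (hσ : IsSiegel (bv (pD r)) (bv (qD r)) ((sD r : K) * t) σ) : mat σ = ED4mat K r t := by
  apply Matrix.ext_of_mulVec_single
  intro k
  rw [hσ, ED4mat_act K r hr]

theorem ED4_eq (r : Fin Cfsg.Lie.chevD4.nroots) (t : K) (σ : ↥(Iso 4 K))
    (hσ : IsSiegel (bv (pD r.val)) (bv (qD r.val)) ((sD r.val : K) * t) σ) :
    ED4 K r t = (σ : Matrix.GeneralLinearGroup (Fin 4 ⊕ Fin 4) K) := by
  have h := mat_eq_of_siegel K r.val r.isLt t σ hσ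
  have hu : IsUnit (ED4mat K r.val t) := by
    rw [← h]
    exact (σ : Matrix.GeneralLinearGroup (Fin 4 ⊕ Fin 4) K).isUnit
  unfold ED4
  rw [dif_pos hu]
  apply Units.ext
  rw [IsUnit.unit_spec]
  exact h.symm

theorem exists_siegel_D4 (r : ℕ) (hr : r < 24) (t : K) :
    ∃ σ : ↥(Iso 4 K), IsSiegel (bv (pD r)) (bv (qD r)) ((sD r : K) * t) σ :=
  Cfsg.Agent.Lib.Helper76.Siegel.pkgExist 4 K _ _ (isSingLine_D4 K r hr) _

theorem sD_sq (r : ℕ) (hr : r < 24) : (sD r : K) * (sD r : K) = 1 := by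
  have h := (tabD4_ne r hr).2.2
  have h2 : ((sD r * sD r : ℤ) : K) = ((1 : ℤ) : K) := by rw [h]
  push_cast at h2
  exact h2

/-- **[GEN-D4]** `Ω(quadFormPlus 4 K)`, viewed in `GL`, is the group generated by the model root
elements, over every field `K`. -/
theorem genD4 : Cfsg.Geo.omegaGL (Cfsg.quadFormPlus 4 K) = RD4 K := by
  unfold Cfsg.Geo.omegaGL RD4
  rw [omega_eq_closure_rootSet' (by norm_num), MonoidHom.map_closure]
  congr 1
  ext g
  constructor
  · rintro ⟨σ, ⟨a, b, c, hab, hab', hσ⟩, rfl⟩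
    obtain ⟨r, hr, h | h⟩ := tabD4_all a b hab hab'
    · refine ⟨(⟨r, hr⟩, (sD r : K) * c), ?_⟩
      apply ED4_eq K ⟨r, hr⟩ ((sD r : K) * c) σ
      show IsSiegel (bv (pD r)) (bv (qD r)) ((sD r : K) * ((sD r : K) * c)) σ
      rw [← mul_assoc, sD_sq K r hr, one_mul, h.1, h.2]
      exact hσ
    · refine ⟨(⟨r, hr⟩, (sD r : K) * (-c)), ?_⟩
      apply ED4_eq K ⟨r, hr⟩ ((sD r : K) * (-c)) σ
      show IsSiegel (bv (pD r)) (bv (qD r)) ((sD r : K) * ((sD r : K) * (-c))) σ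
      rw [← mul_assoc, sD_sq K r hr, one_mul, h.1, h.2]
      exact (Cfsg.Agent.Lib.Helper76.Siegel.pkgAlg 4 K (bv a) (bv b)
        (isSingLine_bv hab hab')).2.2.2.2.1 c σ hσ
  · rintro ⟨⟨r, t⟩, rfl⟩
    obtain ⟨σ, hσ⟩ := exists_siegel_D4 K r.val r.isLt t
    exact ⟨σ, ⟨pD r.val, qD r.val, _, (tabD4_ne r.val r.isLt).1, (tabD4_ne r.val r.isLt).2.1, hσ⟩,
      (ED4_eq K r t σ hσ).symm⟩

end D4

/-! ## By-products (spares for the table packages) -/

/-- [UNIT-D4] -/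
theorem unitD4 : PkgUnitD4.{u} := by
  intro K _ r t hr
  obtain ⟨σ, hσ⟩ := exists_siegel_D4 K r hr t
  rw [← mat_eq_of_siegel K r hr t σ hσ]
  exact (σ : Matrix.GeneralLinearGroup (Fin 4 ⊕ Fin 4) K).isUnit

/-- [ISO-D4] -/
theorem isoD4 : PkgIsoD4.{u} := by
  intro K _ r t hr v
  obtain ⟨σ, hσ⟩ := exists_siegel_D4 K r hr t
  rw [← mat_eq_of_siegel K r hr t σ hσ]
  exact Q_act σ v

/-- [RO-D4] -/
theorem roD4 : PkgRoD4.{u} := by
  intro K _
  rw [← genD4 K]
  unfold Cfsg.Geo.omegaGL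
  rintro g ⟨σ, _, rfl⟩
  exact σ.2

/-- [IN-D4] -/
theorem inD4 : PkgInD4.{u} := by
  intro K _ r t
  rw [genD4 K]
  exact Subgroup.subset_closure ⟨(r, t), rfl⟩

end Cfsg.Agent.Lib.Helper67.CHO
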